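import Groth.Agent.Lib.DimRes8.Sweep
import Mathlib.CategoryTheory.Limits.Shapes.BinaryBiproducts

/-!
The grading attached to a cogenerating class closed under extensions and cokernels of monomorphisms.
-/

set_option autoImplicit false
set_option backward.isDefEq.respectTransparency false

universe v u

open CategoryTheory CategoryTheory.Limits

namespace Groth.Agent.DimRes8

variable {A : Type u} [Category.{v} A] [Abelian A] (P : A → Prop)

/-- Coresolution dimension at most `k`. -/
def CDim : ℕ → A → Prop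
  | 0, X => P X
  | k + 1, X => ∀ ⦃Y : A⦄ (ι : X ⟶ Y), Mono ι → P Y → CDim k (cokernel ι)

/-- The standing hypotheses. -/
structure Cogen : Prop where
  iso : ∀ {X Y : A}, (X ≅ Y) → P X → P Y
  env : ∀ X : A, ∃ (Y : A) (ι : X ⟶ Y), P Y ∧ Mono ι
  two : ∀ S : ShortComplex A, S.ShortExact → P S.X₁ → (P S.X₂ ↔ P S.X₃)

variable {P}

theorem isIso_cokernelMap {X Y Z W : A} {f : X ⟶ Y} {g : X ⟶ Z} {inl : Y ⟶ W} {inr : Z ⟶ W}
    (h : IsPushout f g inl inr) : IsIso (cokernel.map f inr g inl h.w) := by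
  refine ⟨cokernel.desc inr (h.desc (cokernel.π f) 0 (by simp)) (h.inr_desc _ _ _), ?_, ?_⟩
  · apply coequalizer.hom_ext
    simp
  · apply coequalizer.hom_ext
    change cokernel.π inr ≫ _ = cokernel.π inr ≫ _
    apply h.hom_ext <;> simp

theorem shortExact_cokernel {X Y : A} (i : X ⟶ Y) [Mono i] :
    (ShortComplex.mk i (cokernel.π i) (cokernel.condition i)).ShortExact :=
  { exact := ShortComplex.exact_of_g_is_cokernel _ (cokernelIsCokernel i) }

theorem shortExact_cokernel_comp {X Y Z : A} (v : X ⟶ Y) (w : Y ⟶ Z) [Mono w] :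
    (ShortComplex.mk (cokernel.map v (v ≫ w) (𝟙 _) w (by simp))
        (cokernel.desc (v ≫ w) (cokernel.π w) (by rw [Category.assoc, cokernel.condition, comp_zero]))
        (by ext; simp)).ShortExact := by
  haveI : Mono (cokernel.map v (v ≫ w) (𝟙 _) w (by simp)) := by
    rw [Preadditive.mono_iff_cancel_zero]
    intro T x hx
    obtain ⟨T₁, π₁, hπ₁, z, hz⟩ := surjective_up_to_refinements_of_epi (cokernel.π v) x
    have h0 : (z ≫ w) ≫ cokernel.π (v ≫ w) = 0 := by
      have h := congrArg (· ≫ cokernel.map v (v ≫ w) (𝟙 _) w (by simp)) hz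
      simp only [Category.assoc, hx, comp_zero, cokernel.π_desc] at h
      rw [Category.assoc]
      exact h.symm
    obtain ⟨T₂, π₂, hπ₂, y, hy⟩ := (ShortComplex.exact_cokernel (v ≫ w)).exact_up_to_refinements _ h0
    have hy' : π₂ ≫ z = y ≫ v := by rw [← cancel_mono w]; simpa using hy
    rw [← cancel_epi π₁, comp_zero, hz, ← cancel_epi π₂, comp_zero, reassoc_of% hy', cokernel.condition, comp_zero]
  haveI : Epi (cokernel.desc (v ≫ w) (cokernel.π w) (by rw [Category.assoc, cokernel.condition, comp_zero])) := by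
    haveI : Epi (cokernel.π (v ≫ w) ≫ cokernel.desc (v ≫ w) (cokernel.π w)
      (by rw [Category.assoc, cokernel.condition, comp_zero])) := by rw [cokernel.π_desc]; infer_instance
    exact epi_of_epi (cokernel.π (v ≫ w)) _
  refine { exact := ShortComplex.exact_of_g_is_cokernel _ (CokernelCofork.IsColimit.ofπ' _ (by ext; simp)
    fun {T} k hk => ⟨cokernel.desc w (cokernel.π (v ≫ w) ≫ k) (by
      have h := cokernel.π v ≫= hk
      simpa using h), by ext; simp⟩) }

/-- The pushout of a short exact sequence along a monomorphism. -/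
theorem exists_pushout_shortExact (S : ShortComplex A) (hS : S.ShortExact) {Y : A} (ι : S.X₁ ⟶ Y) [Mono ι] :
    ∃ (Z : A) (u : Y ⟶ Z) (p : Z ⟶ S.X₃) (hu : u ≫ p = 0) (v : S.X₂ ⟶ Z),
      (ShortComplex.mk u p hu).ShortExact ∧ Mono v ∧ Nonempty (cokernel v ≅ cokernel ι) := by
  haveI := hS.mono_f
  haveI := hS.epi_g
  let h := IsPushout.of_hasPushout S.f ι
  let p : pushout S.f ι ⟶ S.X₃ := pushout.desc S.g 0 (by rw [S.zero, comp_zero])
  refine ⟨_, pushout.inr S.f ι, p, pushout.inr_desc _ _ _, pushout.inl S.f ι, ?_, inferInstance, ?_⟩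
  · haveI : Epi (pushout.inl S.f ι ≫ p) := by rw [pushout.inl_desc]; infer_instance
    haveI : Epi p := epi_of_epi (pushout.inl S.f ι) p
    refine { exact := ?_ }
    refine ShortComplex.exact_of_g_is_cokernel _ (CokernelCofork.IsColimit.ofπ' p (pushout.inr_desc _ _ _)
      fun {W} k hk => ?_)
    have hk' : S.f ≫ pushout.inl S.f ι ≫ k = 0 := by rw [pushout.condition_assoc, hk, comp_zero]
    refine ⟨hS.gIsCokernel.desc (CokernelCofork.ofπ _ hk'), ?_⟩
    apply pushout.hom_ext
    · rw [pushout.inl_desc_assoc]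
      exact hS.gIsCokernel.fac (CokernelCofork.ofπ _ hk') WalkingParallelPair.one
    · rw [pushout.inr_desc_assoc, zero_comp, hk]
  · haveI := isIso_cokernelMap h.flip
    exact ⟨(asIso (cokernel.map ι (pushout.inl S.f ι) S.f (pushout.inr S.f ι) h.w.symm)).symm⟩

/-- Two coresolution steps compare through a pushout. -/
theorem compare {X Y₁ Y₂ : A} (a : X ⟶ Y₁) (b : X ⟶ Y₂) [Mono a] [Mono b] :
    ∃ (Z : A) (u₁ : Y₁ ⟶ Z) (p₁ : Z ⟶ cokernel b) (h₁ : u₁ ≫ p₁ = 0) (u₂ : Y₂ ⟶ Z) (p₂ : Z ⟶ cokernel a)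
      (h₂ : u₂ ≫ p₂ = 0), (ShortComplex.mk u₁ p₁ h₁).ShortExact ∧ (ShortComplex.mk u₂ p₂ h₂).ShortExact := by
  let h := IsPushout.of_hasPushout a b
  haveI := isIso_cokernelMap h
  haveI := isIso_cokernelMap h.flip
  refine ⟨_, pushout.inl a b, cokernel.π _ ≫ inv (cokernel.map b (pushout.inl a b) a (pushout.inr a b) h.w.symm),
    by simp, pushout.inr a b, cokernel.π _ ≫ inv (cokernel.map a (pushout.inr a b) b (pushout.inl a b) h.w),
    by simp, ?_, ?_⟩
  · exact ShortComplex.shortExact_of_iso (ShortComplex.isoMk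
      (S₁ := ShortComplex.mk (pushout.inl a b) (cokernel.π _) (cokernel.condition _)) (Iso.refl _) (Iso.refl _)
      (asIso (cokernel.map b (pushout.inl a b) a (pushout.inr a b) h.w.symm)).symm (by simp) (by simp))
      (shortExact_cokernel (pushout.inl a b))
  · exact ShortComplex.shortExact_of_iso (ShortComplex.isoMk
      (S₁ := ShortComplex.mk (pushout.inr a b) (cokernel.π _) (cokernel.condition _)) (Iso.refl _) (Iso.refl _)
      (asIso (cokernel.map a (pushout.inr a b) b (pushout.inl a b) h.w)).symm (by simp) (by simp))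
      (shortExact_cokernel (pushout.inr a b))

variable (hP : Cogen P)
include hP

theorem cdim_iso : ∀ {k : ℕ} {X Y : A}, (X ≅ Y) → CDim P k X → CDim P k Y := by
  intro k
  induction k with
  | zero => exact hP.iso
  | succ k ih =>
    intro X Y e h W ι _ hW
    exact ih (cokernelEpiComp e.hom ι) (h (e.hom ≫ ι) inferInstance hW)

/-- One step suffices. -/
theorem cdim_succ_of (k : ℕ)
    (hb : ∀ S : ShortComplex A, S.ShortExact → P S.X₁ → (CDim P k S.X₂ ↔ CDim P k S.X₃))
    {X Y : A} (ι : X ⟶ Y) [Mono ι] (hY : P Y) (h : CDim P k (cokernel ι)) : CDim P (k + 1) X := by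
  intro Y' ι' _ hY'
  obtain ⟨Z, u₁, p₁, h₁, u₂, p₂, h₂, s₁, s₂⟩ := compare ι ι'
  exact (hb _ s₁ hY).1 ((hb _ s₂ hY').2 h)

/-- Objects of the class do not matter on the left. -/
theorem cdim_two : ∀ (k : ℕ) (S : ShortComplex A), S.ShortExact → P S.X₁ → (CDim P k S.X₂ ↔ CDim P k S.X₃) := by
  intro k
  induction k with
  | zero => exact hP.two
  | succ k ih =>
    intro S hS h1
    haveI := hS.mono_f
    obtain ⟨W, ι, hW, hι⟩ := hP.env S.X₂
    have hC : P (cokernel (S.f ≫ ι)) :=
      (hP.two _ (shortExact_cokernel (S.f ≫ ι)) h1).1 hW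
    haveI := hS.epi_g
    let v : S.X₃ ⟶ cokernel (S.f ≫ ι) :=
      hS.gIsCokernel.desc (CokernelCofork.ofπ (ι ≫ cokernel.π (S.f ≫ ι)) (by
        rw [← Category.assoc, cokernel.condition]))
    have hv : S.g ≫ v = ι ≫ cokernel.π (S.f ≫ ι) := hS.gIsCokernel.fac _ WalkingParallelPair.one
    have sq : IsPushout ι S.g (cokernel.π (S.f ≫ ι)) v := by
      refine IsPushout.of_isColimit (c := PushoutCocone.mk _ _ hv.symm) (PushoutCocone.IsColimit.mk _
        (fun s => cokernel.desc _ s.inl (by rw [Category.assoc, s.condition, S.zero_assoc, zero_comp]))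
        (fun s => cokernel.π_desc _ _ _) (fun s => ?_) (fun s m h₁ _ => ?_))
      · rw [← cancel_epi S.g, reassoc_of% hv, cokernel.π_desc, s.condition]
      · rw [← cancel_epi (cokernel.π (S.f ≫ ι)), h₁, cokernel.π_desc]
    haveI : Mono v := Abelian.mono_inr_of_isColimit ι S.g sq.isColimit
    haveI := isIso_cokernelMap sq
    let e := asIso (cokernel.map ι v S.g (cokernel.π (S.f ≫ ι)) sq.w)
    exact ⟨fun h => cdim_succ_of hP k ih v hC (cdim_iso hP e (h ι hι hW)),
      fun h => cdim_succ_of hP k ih ι hW (cdim_iso hP e.symm (h v inferInstance hC))⟩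

theorem cdim_mk (k : ℕ) {X Y : A} (ι : X ⟶ Y) [Mono ι] (hY : P Y) (h : CDim P k (cokernel ι)) :
    CDim P (k + 1) X :=
  cdim_succ_of hP k (cdim_two hP k) ι hY h

theorem cdim_succ : ∀ (k : ℕ) {X : A}, CDim P k X → CDim P (k + 1) X := by
  intro k
  induction k with
  | zero => exact fun {X} h Y ι _ hY => (hP.two _ (shortExact_cokernel ι) h).1 hY
  | succ k ih => exact fun {X} h Y ι hι hY => ih (h ι hι hY)

theorem cdim_mono {k l : ℕ} {X : A} (hkl : k ≤ l) (h : CDim P k X) : CDim P l X := by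
  induction hkl with
  | refl => exact h
  | step _ ih => exact cdim_succ hP _ ih

/-- Extensions. -/
theorem cdim_ext : ∀ (k : ℕ) (S : ShortComplex A), S.ShortExact → CDim P k S.X₁ → CDim P k S.X₃ → CDim P k S.X₂ := by
  intro k
  induction k with
  | zero => exact fun S hS h1 h3 => (hP.two S hS h1).2 h3
  | succ k ih =>
    intro S hS h1 h3
    obtain ⟨Y, ι, hY, hι⟩ := hP.env S.X₁
    obtain ⟨Z, u, p, hu, v, hse, hv, ⟨e⟩⟩ := exists_pushout_shortExact S hS ι
    have hZ : CDim P (k + 1) Z := (cdim_two hP _ _ hse hY).2 h3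
    obtain ⟨W, w, hW, hw⟩ := hP.env Z
    refine cdim_mk hP k (v ≫ w) hW ?_
    have hs := shortExact_cokernel_comp v w
    exact ih _ hs (cdim_iso hP e.symm (h1 ι hι hY)) (hZ w hw hW)

/-- The quotient property. -/
theorem cdim_quot : ∀ (k : ℕ) (S : ShortComplex A), S.ShortExact → CDim P (k + 1) S.X₁ → CDim P k S.X₂ →
    CDim P k S.X₃ := by
  intro k
  induction k with
  | zero =>
    intro S hS h1 h2
    haveI := hS.mono_f
    exact hP.iso (IsColimit.coconePointUniqueUpToIso (cokernelIsCokernel S.f) hS.gIsCokernel) (h1 S.f inferInstance h2)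
  | succ k _ =>
    intro S hS h1 h2
    haveI := hS.mono_f
    haveI := hS.epi_g
    obtain ⟨W, w, hW, hw⟩ := hP.env S.X₂
    have hQ : CDim P (k + 1) (cokernel (S.f ≫ w)) := h1 (S.f ≫ w) inferInstance hW
    obtain ⟨W', w', hW', hw'⟩ := hP.env (cokernel (S.f ≫ w))
    let v : S.X₃ ⟶ cokernel (S.f ≫ w) := hS.gIsCokernel.desc (CokernelCofork.ofπ (w ≫ cokernel.π (S.f ≫ w))
      (by rw [← Category.assoc, cokernel.condition]))
    have hv : S.g ≫ v = w ≫ cokernel.π (S.f ≫ w) := hS.gIsCokernel.fac _ WalkingParallelPair.one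
    have sq : IsPushout w S.g (cokernel.π (S.f ≫ w)) v := by
      refine IsPushout.of_isColimit (c := PushoutCocone.mk _ _ hv.symm) (PushoutCocone.IsColimit.mk _
        (fun s => cokernel.desc _ s.inl (by rw [Category.assoc, s.condition, S.zero_assoc, zero_comp]))
        (fun s => cokernel.π_desc _ _ _) (fun s => ?_) (fun s m h₁ _ => ?_))
      · rw [← cancel_epi S.g, reassoc_of% hv, cokernel.π_desc, s.condition]
      · rw [← cancel_epi (cokernel.π (S.f ≫ w)), h₁, cokernel.π_desc]
    haveI : Mono v := Abelian.mono_inr_of_isColimit w S.g sq.isColimit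
    haveI := isIso_cokernelMap sq
    have hR : CDim P k (cokernel v) :=
      cdim_iso hP (asIso (cokernel.map w v S.g (cokernel.π (S.f ≫ w)) sq.w)) (h2 w hw hW)
    refine cdim_mk hP k (v ≫ w') hW' ?_
    have hQ' : CDim P k (cokernel w') := hQ w' hw' hW'
    have hext := shortExact_cokernel_comp v w'
    exact cdim_ext hP k _ hext hR hQ'

/-- The grading. -/
noncomputable def grading : Grading A where
  G := CDim P
  iso := cdim_iso hP
  mono := cdim_mono hP
  env X := let ⟨Y, ι, hY, hι⟩ := hP.env X; ⟨Y, ι, hι, hY⟩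
  sum {k X Y} hX hY := cdim_ext hP k _ (ShortComplex.Splitting.ofHasBinaryBiproduct X Y).shortExact hX hY
  quot {k} := cdim_quot hP k

end Groth.Agent.DimRes8
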