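import Mathlib.Algebra.Homology.Double
import Mathlib.Algebra.Homology.QuasiIso
import Mathlib.Algebra.Homology.HomologySequence
import Mathlib.Algebra.Homology.HomologicalComplexLimits
import Mathlib.Algebra.Homology.HomologicalComplexAbelian
import Mathlib.Algebra.Homology.CommSq
import Mathlib.CategoryTheory.Abelian.CommSq

/-!
An elementary move improving one term of a complex up to quasi-isomorphism.
-/

set_option autoImplicit false
set_option backward.isDefEq.respectTransparency false

universe v u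

open CategoryTheory CategoryTheory.Limits

namespace Groth.Agent.DimRes8

variable {A : Type u} [Category.{v} A] [Abelian A]

/-- A grading of objects by a dimension relative to a cogenerating class. -/
structure Grading (A : Type u) [Category.{v} A] [Abelian A] where
  /-- dimension at most `k` -/
  G : ℕ → A → Prop
  iso : ∀ {k : ℕ} {X Y : A}, (X ≅ Y) → G k X → G k Y
  mono : ∀ {k l : ℕ} {X : A}, k ≤ l → G k X → G l X
  env : ∀ X : A, ∃ (Y : A) (ι : X ⟶ Y), Mono ι ∧ G 0 Y
  sum : ∀ {k : ℕ} {X Y : A}, G k X → G k Y → G k (X ⊞ Y)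
  quot : ∀ {k : ℕ} (S : ShortComplex A), S.ShortExact → G (k + 1) S.X₁ → G k S.X₂ → G k S.X₃

theorem quasiIso_g_of_acyclic {S : ShortComplex (CochainComplex A ℤ)} (hS : S.ShortExact)
    (h : S.X₁.Acyclic) : QuasiIso S.g := by
  rw [quasiIso_iff]
  intro n
  rw [quasiIsoAt_iff_isIso_homologyMap]
  have hz : ∀ k, IsZero (S.X₁.homology k) := fun k => (S.X₁.exactAt_iff_isZero_homology k).1 (h k)
  haveI := (hS.homology_exact₂ n).mono_g ((hz n).eq_of_src _ _)
  haveI := (hS.homology_exact₃ n (n + 1) (by simp)).epi_f ((hz (n + 1)).eq_of_tgt _ _)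
  exact isIso_of_mono_of_epi _

theorem quasiIso_f_of_acyclic {S : ShortComplex (CochainComplex A ℤ)} (hS : S.ShortExact)
    (h : S.X₃.Acyclic) : QuasiIso S.f := by
  rw [quasiIso_iff]
  intro n
  rw [quasiIsoAt_iff_isIso_homologyMap]
  have hz : ∀ k, IsZero (S.X₃.homology k) := fun k => (S.X₃.exactAt_iff_isZero_homology k).1 (h k)
  haveI := (hS.homology_exact₁ (n - 1) n (by simp)).mono_g ((hz (n - 1)).eq_of_src _ _)
  haveI := (hS.homology_exact₂ n).epi_f ((hz n).eq_of_tgt _ _)
  exact isIso_of_mono_of_epi _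

/-- The contractible complex on `X` in degrees `n`, `n + 1`. -/
noncomputable abbrev disc (X : A) (n : ℤ) : CochainComplex A ℤ :=
  HomologicalComplex.double (𝟙 X) (c := ComplexShape.up ℤ) (i₀ := n) (i₁ := n + 1) rfl

theorem acyclic_disc (X : A) (n : ℤ) : (disc X n).Acyclic := by
  intro i
  haveI : IsIso ((disc X n).d n (n + 1)) := by
    rw [HomologicalComplex.double_d _ _ (by simp)]
    infer_instance
  by_cases h0 : i = n
  · subst h0
    rw [HomologicalComplex.exactAt_iff' _ (i - 1) i (i + 1) (by simp) (by simp)]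
    exact (ShortComplex.exact_iff_mono _ (HomologicalComplex.double_d_eq_zero₀ (𝟙 X) (c := ComplexShape.up ℤ) (i₀ := i) (i₁ := i + 1) rfl (i - 1) i
      (by omega))).2
      (inferInstanceAs (Mono ((disc X i).d i (i + 1))))
  · by_cases h1 : i = n + 1
    · subst h1
      rw [HomologicalComplex.exactAt_iff' _ n (n + 1) (n + 1 + 1) (by simp) (by simp)]
      exact (ShortComplex.exact_iff_epi _ (HomologicalComplex.double_d_eq_zero₀ (𝟙 X) (c := ComplexShape.up ℤ) (i₀ := n) (i₁ := n + 1) rfl (n + 1) (n + 1 + 1)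
        (by omega))).2
        (inferInstanceAs (Epi ((disc X n).d n (n + 1))))
    · exact HomologicalComplex.ExactAt.of_isZero (HomologicalComplex.isZero_double_X _ _ i h0 h1)

/-- The elementary move at degree `n`. -/
theorem exists_move (D : Grading A) (K : CochainComplex A ℤ) (n : ℤ) :
    ∃ (K' : CochainComplex A ℤ) (f : K ⟶ K'), QuasiIso f ∧
      (∀ i, i ≠ n → i ≠ n + 1 → IsIso (f.f i)) ∧ D.G 0 (K'.X n) ∧
      (∀ l, D.G (l + 1) (K.X n) → D.G l (K.X (n + 1)) → D.G l (K'.X (n + 1))) ∧
      (D.G 0 (K.X n) → IsIso f) := by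
  by_cases hn : D.G 0 (K.X n)
  · exact ⟨K, 𝟙 K, inferInstance, fun i _ _ => inferInstanceAs (IsIso (𝟙 (K.X i))), hn, fun l _ h => h,
      fun _ => inferInstance⟩
  obtain ⟨Y, ι, hι, hY⟩ := D.env (K.X n)
  have hne : n ≠ n + 1 := by omega
  let a : disc (K.X n) n ⟶ disc Y n := HomologicalComplex.mkHomFromDouble _ hne
    (ι ≫ (HomologicalComplex.doubleXIso₀ _ _).inv) (ι ≫ (HomologicalComplex.doubleXIso₁ _ _ hne).inv)
    (by rw [HomologicalComplex.double_d _ _ hne]; simp) fun k hk => by
      rw [HomologicalComplex.double_d_eq_zero₀ _ _ _ _ (by omega), comp_zero]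
  let b : disc (K.X n) n ⟶ K := HomologicalComplex.mkHomFromDouble _ hne (𝟙 _) (K.d n (n + 1))
    (by simp) (fun k _ => K.d_comp_d _ _ _)
  have hab : ∀ i, IsPushout (a.f i) (b.f i) ((pushout.inl a b).f i) ((pushout.inr a b).f i) := fun i =>
    (IsPushout.of_hasPushout a b).map (HomologicalComplex.eval A (ComplexShape.up ℤ) i)
  have hmono : ∀ i, Mono (a.f i) := fun i => by
    by_cases h0 : i = n
    · subst h0
      rw [HomologicalComplex.mkHomFromDouble_f₀]
      infer_instance
    · by_cases h1 : i = n + 1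
      · subst h1
        rw [HomologicalComplex.mkHomFromDouble_f₁]
        infer_instance
      · exact (HomologicalComplex.isZero_double_X _ _ i h0 h1).mono _
  have hSE : ∀ i, (hab i).toCommSq.shortComplex.ShortExact := fun i =>
    haveI := hmono i
    haveI := (hab i).epi_shortComplex_g
    { exact := (hab i).exact_shortComplex
      mono_f := mono_of_mono_fac (biprod.lift_fst (a.f i) (-(b.f i))) }
  refine ⟨pushout a b, pushout.inr a b, ?_, fun i h0 h1 => ?_, ?_, fun l hl hl' => ?_, fun h => absurd h hn⟩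
  · haveI : Mono a := HomologicalComplex.mono_of_mono_f a hmono
    let T := (IsPushout.of_hasPushout a b).toCommSq.shortComplex
    haveI : Mono T.f := mono_of_mono_fac (biprod.lift_fst a (-b))
    haveI : Epi T.g := (IsPushout.of_hasPushout a b).epi_shortComplex_g
    have hT : T.ShortExact := { exact := (IsPushout.of_hasPushout a b).exact_shortComplex }
    haveI : QuasiIso T.g := quasiIso_g_of_acyclic hT (acyclic_disc _ _)
    haveI : QuasiIso (biprod.inr : K ⟶ disc Y n ⊞ K) :=
      quasiIso_f_of_acyclic (S := ShortComplex.mk (biprod.inr : K ⟶ disc Y n ⊞ K) biprod.fst biprod.inr_fst)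
        (ShortComplex.Splitting.shortExact
          { r := biprod.snd, s := biprod.inl, id := by rw [add_comm]; exact biprod.total })
        (acyclic_disc _ _)
    rw [show pushout.inr a b = biprod.inr ≫ T.g from (biprod.inr_desc _ _).symm]
    exact inferInstanceAs (QuasiIso (biprod.inr ≫ T.g))
  · have hi : IsZero ((disc (K.X n) n).X i) := HomologicalComplex.isZero_double_X _ _ i h0 h1
    have hY' : IsZero ((disc Y n).X i) := HomologicalComplex.isZero_double_X _ _ i h0 h1
    haveI : IsIso (a.f i) := ⟨0, hi.eq_of_src _ _, hY'.eq_of_src _ _⟩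
    exact (hab i).isIso_inr_of_isIso
  · haveI : IsIso (b.f n) := by rw [HomologicalComplex.mkHomFromDouble_f₀]; infer_instance
    haveI := (hab n).isIso_inl_of_isIso
    exact D.iso ((HomologicalComplex.doubleXIso₀ _ _).symm ≪≫ asIso ((pushout.inl a b).f n)) hY
  · exact D.quot _ (hSE (n + 1))
      (D.iso (HomologicalComplex.doubleXIso₁ (𝟙 (K.X n)) (c := ComplexShape.up ℤ) (i₀ := n) (i₁ := n + 1) rfl hne).symm hl)
      (D.sum (D.iso (HomologicalComplex.doubleXIso₁ (𝟙 Y) (c := ComplexShape.up ℤ) (i₀ := n) (i₁ := n + 1) rfl hne).symm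
        (D.mono (Nat.zero_le l) hY)) hl')

end Groth.Agent.DimRes8
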