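import Groth.Agent.Lib.DimRes8.Move
import Mathlib.CategoryTheory.Functor.OfSequence
import Mathlib.CategoryTheory.Limits.Constructions.EventuallyConstant

/-!
Unbounded complexes whose terms have controlled dimension admit resolutions by dimension zero objects.
-/

set_option autoImplicit false
set_option backward.isDefEq.respectTransparency false

universe v u

open CategoryTheory CategoryTheory.Limits

namespace Groth.Agent.DimRes8

variable {A : Type u} [Category.{v} A] [Abelian A] (D : Grading A)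

/-- Successive moves in the degrees `a, …, a + N - 1`. -/
theorem exists_sweep (K : CochainComplex A ℤ) (a c : ℤ) (hz : ∀ i, a < i → i ≤ c → D.G 0 (K.X i)) (N : ℕ) :
    ∃ (K' : CochainComplex A ℤ) (f : K ⟶ K'), QuasiIso f ∧ (∀ i, i < a → IsIso (f.f i)) ∧
      (∀ i, a + N < i → IsIso (f.f i)) ∧ (∀ i, a ≤ i → i < a + N → D.G 0 (K'.X i)) ∧
      ∀ e : ℕ, D.G e (K.X a) → (∀ i, a + e < i → i ≤ c → IsIso (f.f i)) ∧
        (a + N ≤ c → D.G (e - N) (K'.X (a + N))) := by
  induction N with
  | zero =>
    exact ⟨K, 𝟙 K, inferInstance, fun i _ => inferInstanceAs (IsIso (𝟙 (K.X i))),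
      fun i _ => inferInstanceAs (IsIso (𝟙 (K.X i))), fun i h h' => absurd h' (by omega),
      fun e he => ⟨fun i _ _ => inferInstanceAs (IsIso (𝟙 (K.X i))), fun _ => by simpa using he⟩⟩
  | succ N ih =>
    obtain ⟨K', f, hf, h1, h2, h3, h4⟩ := ih
    obtain ⟨K'', g, hg, g1, g2, g3, g4⟩ := exists_move D K' (a + N)
    have hnext : D.G 0 (K.X (a + N + 1)) → D.G 0 (K'.X (a + N + 1)) := fun h => by
      haveI := h2 (a + N + 1) (by omega)
      exact D.iso (asIso (f.f (a + N + 1))) h
    refine ⟨K'', f ≫ g, inferInstance, fun i hi => ?_, fun i hi => ?_, fun i hi hi' => ?_, fun e he => ⟨fun i hi hic => ?_, ?_⟩⟩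
    · haveI := h1 i hi
      haveI := g1 i (by omega) (by omega)
      exact inferInstanceAs (IsIso (f.f i ≫ g.f i))
    · push_cast at hi
      haveI := h2 i (by omega)
      haveI := g1 i (by omega) (by omega)
      exact inferInstanceAs (IsIso (f.f i ≫ g.f i))
    · push_cast at hi'
      rcases (show i = a + N ∨ i < a + N by omega) with rfl | h
      · exact g2
      · haveI := g1 i (by omega) (by omega)
        exact D.iso (asIso (g.f i)) (h3 i hi h)
    · haveI := (h4 e he).1 i hi hic
      haveI : IsIso (g.f i) := by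
        by_cases hc : a + N ≤ c ∧ e ≤ N
        · haveI := g4 (D.mono (by omega) ((h4 e he).2 hc.1))
          infer_instance
        · exact g1 i (by omega) (by omega)
      exact inferInstanceAs (IsIso (f.f i ≫ g.f i))
    · intro hc
      push_cast at hc
      rw [show a + ((N + 1 : ℕ) : ℤ) = a + N + 1 by omega]
      exact g3 _ (D.mono (by omega) ((h4 e he).2 (by omega)))
        (D.mono (Nat.zero_le _) (hnext (hz _ (by omega) (by omega))))

/-- A partially improved complex. -/
structure St (K : CochainComplex A ℤ) (j : ℕ) where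
  /-- the complex -/
  L : CochainComplex A ℤ
  /-- the comparison -/
  f : K ⟶ L
  qis : QuasiIso f
  orig : ∀ i : ℤ, i ≤ -(j : ℤ) → IsIso (f.f i)
  zero : ∀ i : ℤ, -(j : ℤ) < i → i < j → D.G 0 (L.X i)

theorem exists_step (K : CochainComplex A ℤ) (j : ℕ) (s : St D K j) :
    ∃ (t : St D K (j + 1)) (g : s.L ⟶ t.L), s.f ≫ g = t.f ∧
      ∀ (e : ℕ), D.G e (K.X (-(j : ℤ))) → ∀ i : ℤ, -(j : ℤ) + e < i → i < j → IsIso (g.f i) := by
  obtain ⟨L, g, hg, h1, -, h3, h4⟩ :=
    exists_sweep D s.L (-(j : ℤ)) (j - 1) (fun i hi hi' => s.zero i hi (by omega)) (2 * j + 1)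
  haveI := s.qis
  refine ⟨⟨L, s.f ≫ g, inferInstance, fun i hi => ?_, fun i hi hi' => ?_⟩, g, rfl, fun e he i hi hi' => ?_⟩
  · push_cast at hi
    haveI := h1 i (by omega)
    haveI := s.orig i (by omega)
    exact inferInstanceAs (IsIso (s.f.f i ≫ g.f i))
  · push_cast at hi hi'
    exact h3 i (by omega) (by push_cast; omega)
  · haveI := s.orig (-(j : ℤ)) le_rfl
    exact (h4 e (D.iso (asIso (s.f.f _)) he)).1 i hi (by omega)

/-- Resolution of an unbounded complex. -/
theorem exists_resolution (K : CochainComplex A ℤ)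
    (hK : ∀ m : ℤ, ∃ N : ℤ, ∀ n : ℤ, n ≤ N → ∃ k : ℕ, D.G k (K.X n) ∧ n + k ≤ m) :
    ∃ (L : CochainComplex A ℤ) (f : K ⟶ L), QuasiIso f ∧ ∀ n, D.G 0 (L.X n) := by
  choose t g hg hiso using exists_step D K
  let S : ∀ j, St D K j := fun j => Nat.rec
    (motive := fun j => St D K j)
    ⟨K, 𝟙 K, inferInstance, fun i _ => inferInstanceAs (IsIso (𝟙 (K.X i))), fun i h h' => absurd h' (by simp at h h' ⊢; omega)⟩
    (fun j s => t j s) j
  let F : ℕ ⥤ CochainComplex A ℤ := Functor.ofSequence fun j => g j (S j)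
  have hev : ∀ i : ℤ, ∃ J : ℕ, (i.natAbs < J) ∧ (F ⋙ HomologicalComplex.eval A _ i).IsEventuallyConstantFrom J := by
    intro i
    obtain ⟨N, hN⟩ := hK (i - 1)
    refine ⟨max (i.natAbs + 1) (-N).toNat, by omega, fun k φ => ?_⟩
    have hstep : ∀ k, max (i.natAbs + 1) (-N).toNat ≤ k → IsIso ((g k (S k)).f i) := fun k hk => by
      obtain ⟨e, he, hle⟩ := hN (-(k : ℤ)) (by omega)
      exact hiso k (S k) e he i (by omega) (by omega)
    obtain ⟨d, rfl⟩ := Nat.exists_eq_add_of_le (leOfHom φ)
    revert φ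
    induction d with
    | zero => intro φ'; rw [Subsingleton.elim φ' (𝟙 _)]; exact inferInstanceAs (IsIso ((F ⋙ _).map (𝟙 _)))
    | succ d ih =>
      intro φ'
      haveI := ih (homOfLE (by omega))
      haveI := hstep (max (i.natAbs + 1) (-N).toNat + d) (by omega)
      rw [Subsingleton.elim φ' (homOfLE (show max (i.natAbs + 1) (-N).toNat ≤ max (i.natAbs + 1) (-N).toNat + d by omega) ≫
        homOfLE (Nat.le_succ _)), Functor.map_comp]
      haveI : IsIso ((F ⋙ HomologicalComplex.eval A (ComplexShape.up ℤ) i).map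
          (homOfLE (Nat.le_succ (max (i.natAbs + 1) (-N).toNat + d)))) := by
        show IsIso ((F.map (homOfLE (Nat.le_succ _))).f i)
        rw [Functor.ofSequence_map_homOfLE_succ]
        infer_instance
      infer_instance
  choose J hJ hc using hev
  haveI : ∀ i, HasColimit (F ⋙ HomologicalComplex.eval A (ComplexShape.up ℤ) i) := fun i => (hc i).hasColimit
  have hι : ∀ (i : ℤ) (k : ℕ), J i ≤ k → IsIso ((colimit.ι F k).f i) := fun i k hk =>
    (hc i).isIso_ι_of_isColimit' (isColimitOfPreserves (HomologicalComplex.eval A _ i) (colimit.isColimit F)) k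
      (homOfLE hk)
  have hfac : ∀ k, (S 0).f ≫ colimit.ι F 0 = (S k).f ≫ colimit.ι F k := fun k => by
    induction k with
    | zero => rfl
    | succ k ih =>
      rw [ih, show (S (k + 1)).f = (S k).f ≫ g k (S k) from (hg k (S k)).symm, Category.assoc,
        ← colimit.w F (homOfLE (Nat.le_succ k)), Functor.ofSequence_map_homOfLE_succ]
  refine ⟨colimit F, (S 0).f ≫ colimit.ι F 0, ?_, fun i => ?_⟩
  · rw [quasiIso_iff]
    intro i
    let k := max (J (i - 1)) (max (J i) (J (i + 1)))
    rw [hfac k]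
    haveI := (S k).qis
    haveI := hι (i - 1) k (by omega)
    haveI := hι i k (by omega)
    haveI := hι (i + 1) k (by omega)
    haveI : QuasiIsoAt (colimit.ι F k) i := by
      rw [quasiIsoAt_iff' _ (i - 1) i (i + 1) (by simp) (by simp)]
      haveI : Epi ((HomologicalComplex.shortComplexFunctor' A (ComplexShape.up ℤ) (i - 1) i (i + 1)).map
          (colimit.ι F k)).τ₁ := inferInstanceAs (Epi ((colimit.ι F k).f (i - 1)))
      haveI : IsIso ((HomologicalComplex.shortComplexFunctor' A (ComplexShape.up ℤ) (i - 1) i (i + 1)).map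
          (colimit.ι F k)).τ₂ := inferInstanceAs (IsIso ((colimit.ι F k).f i))
      haveI : Mono ((HomologicalComplex.shortComplexFunctor' A (ComplexShape.up ℤ) (i - 1) i (i + 1)).map
          (colimit.ι F k)).τ₃ := inferInstanceAs (Mono ((colimit.ι F k).f (i + 1)))
      exact ShortComplex.quasiIso_of_epi_of_isIso_of_mono _
    infer_instance
  · haveI := hι i (J i) le_rfl
    have := hJ i
    exact D.iso (asIso ((colimit.ι F (J i)).f i)) ((S (J i)).zero i (by omega) (by omega))

end Groth.Agent.DimRes8
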